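import Mathlib

/-!
# helper2: flat epimorphisms of finite type are locally surjective; a topological lemma (S0449)

* `exists_smul_mem_range`: for a flat ring epimorphism `A → B`, a prime `q` of `B` and `b : B`,
  there is `t : A` with `φ t ∉ q` and `t • b ∈ φ(A)`.
* `exists_away`: if moreover `B` is of finite type, one `t` works for all `b` up to powers.
* `surjective_of_away`: then `A_t → B_{φ t}` is surjective.
* `isOpen_of_isClosed_of_stableUnderGeneralization`: in a prime spectrum, a closed set stable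
  under generalization whose trace on a dense quasi-compact open is open, is open.
-/

set_option autoImplicit false
set_option synthInstance.maxHeartbeats 400000
set_option maxHeartbeats 4000000
set_option linter.style.haveILetI false
set_option linter.unusedSectionVars false
set_option linter.unusedVariables false
set_option linter.unusedSimpArgs false
set_option linter.unnecessarySimpa false

namespace Groth.Agent.Helper2.FlatEpiOI

open TensorProduct

universe u

section Alg

variable {A B : Type u} [CommRing A] [CommRing B] [Algebra A B]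

theorem tmul_eq_mul_tmul_one [Algebra.IsEpi A B] (b c : B) :
    b ⊗ₜ[A] c = (b * c) ⊗ₜ[A] (1 : B) := by
  have h := (Algebra.isEpi_iff_forall_one_tmul_eq A B).mp inferInstance c
  calc b ⊗ₜ[A] c = (b ⊗ₜ[A] (1 : B)) * ((1 : B) ⊗ₜ[A] c) := by
        simp [Algebra.TensorProduct.tmul_mul_tmul]
    _ = (b ⊗ₜ[A] (1 : B)) * (c ⊗ₜ[A] (1 : B)) := by rw [h]
    _ = (b * c) ⊗ₜ[A] (1 : B) := by simp [Algebra.TensorProduct.tmul_mul_tmul]

/-- the image of `A` in `B` as an `A`-submodule. -/
noncomputable def imA (A B : Type u) [CommRing A] [CommRing B] [Algebra A B] : Submodule A B :=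
  LinearMap.range (Algebra.linearMap A B)

theorem subsingleton_tensor_coker [Algebra.IsEpi A B] :
    Subsingleton (B ⊗[A] (B ⧸ imA A B)) := by
  refine ⟨fun x y => ?_⟩
  have key : ∀ z : B ⊗[A] (B ⧸ imA A B), z = 0 := by
    intro z
    induction z using TensorProduct.induction_on with
    | zero => rfl
    | tmul b c =>
      obtain ⟨c, rfl⟩ := Submodule.mkQ_surjective _ c
      have h1 : b ⊗ₜ[A] ((imA A B).mkQ c) = ((imA A B).mkQ.lTensor B) (b ⊗ₜ[A] c) := by
        simp
      rw [h1, tmul_eq_mul_tmul_one, LinearMap.lTensor_tmul]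
      have h2 : (imA A B).mkQ (1 : B) = 0 := by
        rw [Submodule.mkQ_apply, Submodule.Quotient.mk_eq_zero]
        exact ⟨1, by simp⟩
      rw [h2, tmul_zero]
    | add x y hx hy => rw [hx, hy, add_zero]
  rw [key x, key y]

theorem exists_smul_mem_range [Module.Flat A B] [Algebra.IsEpi A B] (q : Ideal B) [q.IsPrime]
    (b : B) : ∃ t : A, algebraMap A B t ∉ q ∧ ∃ a : A, t • b = algebraMap A B a := by
  obtain ⟨g, hg⟩ : ∃ g : A →ₗ[A] (B ⧸ imA A B),
      g = (imA A B).mkQ ∘ₗ (LinearMap.toSpanSingleton A B b) := ⟨_, rfl⟩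
  obtain ⟨I, hI⟩ : ∃ I : Ideal A, I = LinearMap.ker g := ⟨_, rfl⟩
  obtain ⟨gb, hgb⟩ : ∃ gb : (A ⧸ I) →ₗ[A] (B ⧸ imA A B), gb = I.liftQ g hI.le := ⟨_, rfl⟩
  have hinj : Function.Injective gb := by
    rw [← LinearMap.ker_eq_bot, hgb]
    exact Submodule.ker_liftQ_eq_bot _ _ _ hI.ge
  have hinj2 := Module.Flat.lTensor_preserves_injective_linearMap (M := B) gb hinj
  haveI := subsingleton_tensor_coker (A := A) (B := B)
  haveI : Subsingleton (B ⊗[A] (A ⧸ I)) := hinj2.subsingleton
  haveI : Subsingleton (B ⧸ (I • (⊤ : Submodule A B))) :=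
    (TensorProduct.tensorQuotEquivQuotSMul B I).symm.injective.subsingleton
  have htop : I • (⊤ : Submodule A B) = ⊤ := Submodule.Quotient.subsingleton_iff.mp this
  by_contra hcon
  have hcon : ∀ t : A, algebraMap A B t ∉ q → ¬ ∃ a : A, t • b = algebraMap A B a :=
    fun t h1 h2 => hcon ⟨t, h1, h2⟩
  have hle : I • (⊤ : Submodule A B) ≤ q.restrictScalars A := by
    rw [Submodule.smul_le]
    intro r hr n _
    have hr' : g r = 0 := by
      have : r ∈ LinearMap.ker g := hI ▸ hr
      exact this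
    have hr2 : ∃ a : A, r • b = algebraMap A B a := by
      rw [hg] at hr'
      simp only [LinearMap.coe_comp, Function.comp_apply, LinearMap.toSpanSingleton_apply,
        Submodule.mkQ_apply, Submodule.Quotient.mk_eq_zero] at hr'
      obtain ⟨a, ha⟩ := hr'
      exact ⟨a, by rw [← ha]; rfl⟩
    have hrq : algebraMap A B r ∈ q := by
      by_contra hh
      exact hcon r hh hr2
    change r • n ∈ q
    rw [Algebra.smul_def]
    exact q.mul_mem_right _ hrq
  have h1 : (1 : B) ∈ q.restrictScalars A := hle (by rw [htop]; exact Submodule.mem_top)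
  exact (Ideal.IsPrime.ne_top inferInstance) ((Ideal.eq_top_iff_one q).mpr h1)

theorem exists_away [Module.Flat A B] [Algebra.IsEpi A B] [Algebra.FiniteType A B]
    (q : Ideal B) [q.IsPrime] :
    ∃ t : A, algebraMap A B t ∉ q ∧
      ∀ b : B, ∃ (n : ℕ) (a : A), t ^ n • b = algebraMap A B a := by
  classical
  obtain ⟨s, hs⟩ := (Algebra.FiniteType.out : (⊤ : Subalgebra A B).FG)
  choose tt htq ha using fun b : B => exists_smul_mem_range (A := A) q b
  choose aa haa using ha
  refine ⟨∏ b ∈ s, tt b, ?_, ?_⟩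
  · rw [map_prod, Ideal.IsPrime.prod_mem_iff]
    rintro ⟨b, _, hb⟩
    exact htq b hb
  · intro b
    have hb : b ∈ Algebra.adjoin A (s : Set B) := hs ▸ Algebra.mem_top
    induction hb using Algebra.adjoin_induction with
    | mem x hx =>
      refine ⟨1, (∏ c ∈ s.erase x, tt c) * aa x, ?_⟩
      have hx' : x ∈ s := hx
      rw [pow_one, ← Finset.mul_prod_erase s tt hx', mul_comm, mul_smul, haa x, map_mul,
        Algebra.smul_def]
    | algebraMap r => exact ⟨0, r, by simp⟩
    | add x y _ _ hx hy =>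
      obtain ⟨n, a, h1⟩ := hx
      obtain ⟨m, a', h2⟩ := hy
      refine ⟨n + m, (∏ b ∈ s, tt b) ^ m * a + (∏ b ∈ s, tt b) ^ n * a', ?_⟩
      rw [smul_add, pow_add]
      nth_rewrite 1 [mul_comm]
      rw [mul_smul, mul_smul, h1, h2, map_add, map_mul, map_mul, Algebra.smul_def,
        Algebra.smul_def]
    | mul x y _ _ hx hy =>
      obtain ⟨n, a, h1⟩ := hx
      obtain ⟨m, a', h2⟩ := hy
      refine ⟨n + m, a * a', ?_⟩
      rw [map_mul, ← h1, ← h2, pow_add, Algebra.smul_def, Algebra.smul_def, Algebra.smul_def,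
        map_mul]
      ring

theorem surjective_of_away (t : A)
    (ht : ∀ b : B, ∃ (n : ℕ) (a : A), t ^ n • b = algebraMap A B a)
    {A₁ B₁ : Type u} [CommRing A₁] [CommRing B₁] [Algebra A A₁] [Algebra B B₁]
    [IsLocalization.Away t A₁] [IsLocalization.Away (algebraMap A B t) B₁]
    (φ₁ : A₁ →+* B₁)
    (hφ : φ₁.comp (algebraMap A A₁) = (algebraMap B B₁).comp (algebraMap A B)) :
    Function.Surjective φ₁ := by
  intro y
  obtain ⟨⟨b, ⟨_, k, rfl⟩⟩, hy⟩ := IsLocalization.surj (Submonoid.powers (algebraMap A B t)) y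
  simp only at hy
  obtain ⟨n, a, hna⟩ := ht b
  have hu : IsUnit (algebraMap A A₁ t) := IsLocalization.Away.algebraMap_isUnit t
  obtain ⟨ui, hui⟩ := hu.exists_right_inv
  have hφt : φ₁ (algebraMap A A₁ t) = algebraMap B B₁ (algebraMap A B t) :=
    RingHom.congr_fun hφ t
  have hv : IsUnit (algebraMap B B₁ (algebraMap A B t)) :=
    IsLocalization.Away.algebraMap_isUnit (algebraMap A B t)
  refine ⟨algebraMap A A₁ a * ui ^ (n + k), ?_⟩
  apply (hv.pow (n + k)).mul_left_cancel
  have h1 : algebraMap B B₁ (algebraMap A B t) ^ (n + k) * y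
      = algebraMap B B₁ (algebraMap A B a) := by
    rw [pow_add, mul_assoc, mul_comm _ y, map_pow] at *
    rw [hy, ← map_pow, ← map_pow, ← map_mul, ← hna, Algebra.smul_def, map_pow]
  rw [h1, ← hφt, ← map_pow, ← map_mul]
  have h2 : algebraMap A A₁ t ^ (n + k) * (algebraMap A A₁ a * ui ^ (n + k))
      = algebraMap A A₁ a := by
    rw [mul_comm (algebraMap A A₁ a), ← mul_assoc, ← mul_pow, hui, one_pow, one_mul]
  rw [h2]
  exact (RingHom.congr_fun hφ a)

end Alg

section Top

open PrimeSpectrum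

variable {R : Type u} [CommRing R]

theorem exists_gen_of_mem_closure_basicOpen (g : R) (y : PrimeSpectrum R)
    (hy : y ∈ closure (basicOpen g : Set (PrimeSpectrum R))) :
    ∃ p : PrimeSpectrum R, p ∈ (basicOpen g : Set (PrimeSpectrum R)) ∧ p ⤳ y := by
  obtain ⟨M, hM⟩ : ∃ M : Submonoid R, M = Submonoid.powers g ⊔ y.asIdeal.primeCompl :=
    ⟨_, rfl⟩
  have hdis : Disjoint (((⊥ : Ideal R) : Set R)) (M : Set R) := by
    rw [Set.disjoint_left]
    intro a ha haM
    have ha0 : a = 0 := ha
    subst ha0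
    rw [hM] at haM
    obtain ⟨_, ⟨n, rfl⟩, s, hs, hns⟩ := Submonoid.mem_sup.mp haM
    have hys : y ∈ (basicOpen s : Set (PrimeSpectrum R)) := hs
    obtain ⟨q, hq1, hq2⟩ := mem_closure_iff.mp hy _ (basicOpen s).isOpen hys
    have h0 : g ^ n * s ∈ q.asIdeal := by rw [hns]; exact q.asIdeal.zero_mem
    rcases q.isPrime.mem_or_mem h0 with h | h
    · exact hq2 (q.isPrime.mem_of_pow_mem n h)
    · exact hq1 h
  obtain ⟨p, hp, _, hpM⟩ := Ideal.exists_le_prime_disjoint (⊥ : Ideal R) M hdis
  refine ⟨⟨p, hp⟩, ?_, ?_⟩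
  · intro hgp
    have hgp' : g ∈ p := hgp
    refine Set.disjoint_left.mp hpM hgp' ?_
    rw [hM]
    exact Submonoid.mem_sup_left (Submonoid.mem_powers g)
  · rw [← PrimeSpectrum.le_iff_specializes]
    intro x hx
    by_contra hxy
    refine Set.disjoint_left.mp hpM hx ?_
    rw [hM]
    exact Submonoid.mem_sup_right hxy

theorem isOpen_of_isClosed_of_stableUnderGeneralization (T U : Set (PrimeSpectrum R))
    (hT : IsClosed T) (hTg : StableUnderGeneralization T) (hU : IsOpen U) (hUc : IsCompact U)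
    (hUd : Dense U) (hTU : IsOpen (T ∩ U)) : IsOpen T := by
  have hCo : IsOpen (U \ T) := hU.sdiff hT
  have hCc : IsCompact (U \ T) := by
    have : U \ T = U ∩ (T ∩ U)ᶜ := by
      ext x
      simp only [Set.mem_sdiff, Set.mem_inter_iff, Set.mem_compl_iff, not_and]
      tauto
    rw [this]
    exact hUc.inter_right hTU.isClosed_compl
  obtain ⟨t, ht⟩ := isCompact_isOpen_iff.mp ⟨hCc, hCo⟩
  have hcl : closure (U \ T) ⊆ Tᶜ := by
    intro y hy hyT
    rw [← ht] at hy
    have hunion : (zeroLocus (t : Set R))ᶜ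
        = ⋃ g ∈ (t : Set R), (basicOpen g : Set (PrimeSpectrum R)) := by
      ext q
      simp only [Set.mem_compl_iff, mem_zeroLocus, Set.subset_def, Set.mem_iUnion,
        SetLike.mem_coe, mem_basicOpen, not_forall, exists_prop]
    rw [hunion, t.finite_toSet.closure_biUnion] at hy
    obtain ⟨g, hg, hy⟩ := Set.mem_iUnion₂.mp hy
    obtain ⟨p, hp, hpy⟩ := exists_gen_of_mem_closure_basicOpen g y hy
    have hpT : p ∈ T := hTg hpy hyT
    have hpC : p ∈ U \ T := by
      rw [← ht, hunion]
      exact Set.mem_iUnion₂.mpr ⟨g, hg, hp⟩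
    exact hpC.2 hpT
  have hsub : Tᶜ ⊆ closure (U \ T) := by
    have h := hUd.open_subset_closure_inter hT.isOpen_compl
    have e : Tᶜ ∩ U = U \ T := by
      ext x
      simp only [Set.mem_inter_iff, Set.mem_compl_iff, Set.mem_sdiff]
      tauto
    rwa [e] at h
  have heq : Tᶜ = closure (U \ T) := subset_antisymm hsub hcl
  have hcl2 : IsClosed Tᶜ := heq ▸ isClosed_closure
  exact isClosed_compl_iff.mp hcl2

end Top

end Groth.Agent.Helper2.FlatEpiOI
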