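import Mathlib
import Groth.Agent.Lib.Helper2.FlatEpiOI.Alg

/-!
# helper2: a separated flat morphism locally of finite type which is an isomorphism over a
scheme-theoretically dense retrocompact open is an open immersion (S0449)

Strategy: (1) the diagonal is a closed immersion which is an isomorphism over the (flat pullback of
the) dense open, hence an isomorphism, so `f` is a monomorphism; (2) a flat ring epimorphism of
finite type is, locally on source and target, surjective (`Alg.lean`), so locally `f` is a flat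
closed immersion whose image is closed, stable under generalization and open over the dense
retrocompact open; a topological lemma on prime spectra shows that the image is open;
(3) a flat monomorphism which is an open map is an open immersion (fpqc descent, Mathlib).
-/

set_option autoImplicit false
set_option synthInstance.maxHeartbeats 400000
set_option maxHeartbeats 4000000
set_option linter.style.haveILetI false
set_option linter.unusedSectionVars false
set_option linter.unusedVariables false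
set_option linter.unusedSimpArgs false
set_option linter.unnecessarySimpa false

namespace Groth.Agent.Helper2.FlatEpiOI

open AlgebraicGeometry CategoryTheory Limits TopologicalSpace

universe u

variable {X S : Scheme.{u}} (f : X ⟶ S)

theorem eq_of_comp_eq_of_isIso_restrict (U : S.Opens) [IsIso (f ∣_ U)] {Z : Scheme.{u}}
    (a b : Z ⟶ X) (hab : a ≫ f = b ≫ f) (c : Z ⟶ U) (hc : a ≫ f = c ≫ U.ι) : a = b := by
  have H := isPullback_morphismRestrict f U
  obtain ⟨a', ha'⟩ : ∃ a' : Z ⟶ (f ⁻¹ᵁ U), a' = H.lift c a hc.symm := ⟨_, rfl⟩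
  obtain ⟨b', hb'⟩ : ∃ b' : Z ⟶ (f ⁻¹ᵁ U), b' = H.lift c b (by rw [← hab]; exact hc.symm) :=
    ⟨_, rfl⟩
  have ha1 : a' ≫ (f ∣_ U) = c := by rw [ha']; exact H.lift_fst _ _ _
  have ha2 : a' ≫ (f ⁻¹ᵁ U).ι = a := by rw [ha']; exact H.lift_snd _ _ _
  have hb1 : b' ≫ (f ∣_ U) = c := by rw [hb']; exact H.lift_fst _ _ _
  have hb2 : b' ≫ (f ⁻¹ᵁ U).ι = b := by rw [hb']; exact H.lift_snd _ _ _
  have hab' : a' = b' := by rw [← cancel_mono (f ∣_ U), ha1, hb1]
  rw [← ha2, ← hb2, hab']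

theorem mono_of_iso_over_dense (U : S.Opens) [IsSeparated f] [Flat f] [QuasiCompact U.ι]
    [IsSchemeTheoreticallyDominant U.ι] [IsIso (f ∣_ U)] : Mono f := by
  rw [← pullback.isIso_diagonal_iff]
  haveI : IsClosedImmersion (pullback.diagonal f) := IsSeparated.isClosedImmersion_diagonal
  rw [IsClosedImmersion.isIso_iff_ker_eq_bot]
  obtain ⟨p, hp⟩ : ∃ p : pullback f f ⟶ S, p = pullback.fst f f ≫ f := ⟨_, rfl⟩
  haveI : Flat p := by rw [hp]; infer_instance
  have H : IsPullback (p ∣_ U) (p ⁻¹ᵁ U).ι U.ι p := isPullback_morphismRestrict p U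
  haveI : IsSchemeTheoreticallyDominant (p ⁻¹ᵁ U).ι :=
    IsSchemeTheoreticallyDominant.of_isPullback H
  have hfac : ((p ⁻¹ᵁ U).ι ≫ pullback.fst f f) ≫ pullback.diagonal f = (p ⁻¹ᵁ U).ι := by
    apply pullback.hom_ext
    · simp
    · simp only [Category.assoc, pullback.diagonal_snd, Category.comp_id]
      refine eq_of_comp_eq_of_isIso_restrict f U _ _ ?_ (p ∣_ U) ?_
      · simp only [Category.assoc, pullback.condition]
      · rw [Category.assoc, ← hp]
        exact (morphismRestrict_ι p U).symm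
  have hle := Scheme.Hom.le_ker_comp ((p ⁻¹ᵁ U).ι ≫ pullback.fst f f) (pullback.diagonal f)
  rw [hfac, Scheme.Hom.ker_eq_bot (p ⁻¹ᵁ U).ι] at hle
  exact le_bot_iff.mp hle

theorem isOpen_image_inter_preimage (U : S.Opens) [IsIso (f ∣_ U)] (O : X.Opens) :
    IsOpen (f '' ((O : Set X) ∩ (f ⁻¹ᵁ U : Set X))) := by
  have h1 : (O : Set X) ∩ (f ⁻¹ᵁ U : Set X)
      = (f ⁻¹ᵁ U).ι '' ((f ⁻¹ᵁ U).ι ⁻¹' (O : Set X)) := by
    rw [Set.image_preimage_eq_inter_range, Scheme.Opens.range_ι]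
  rw [h1, ← Set.image_comp]
  have h2 : (f ∘ (f ⁻¹ᵁ U).ι) = (U.ι ∘ (f ∣_ U)) := by
    ext x
    simp only [Function.comp_apply, ← Scheme.Hom.comp_apply, morphismRestrict_ι]
  rw [h2, Set.image_comp]
  apply U.ι.isOpenEmbedding.isOpenMap
  apply (f ∣_ U).isOpenEmbedding.isOpenMap
  exact (f ⁻¹ᵁ U).ι.continuous.isOpen_preimage _ O.isOpen

theorem isOpenImmersion_of_flat_of_mono_of_isOpenMap {X Y : Scheme.{u}} (f : X ⟶ Y) [Flat f]
    [Mono f] (hopen : IsOpenMap f) : IsOpenImmersion f := by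
  obtain ⟨U, hU⟩ : ∃ U : Y.Opens, (U : Set Y) = Set.range f :=
    ⟨⟨Set.range f, hopen.isOpen_range⟩, rfl⟩
  obtain ⟨f', heq⟩ : ∃ f' : X ⟶ U, f' ≫ U.ι = f :=
    ⟨IsOpenImmersion.lift U.ι f (by rw [Scheme.Opens.range_ι, hU]),
      IsOpenImmersion.lift_fac _ _ _⟩
  have hflat : Flat f' :=
    MorphismProperty.of_postcomp (W := @Flat) f' U.ι (inferInstance : IsOpenImmersion U.ι)
      (by rwa [heq])
  have hmono : Mono f' := mono_of_mono_fac heq
  have hb : ∀ x, f x = U.ι (f' x) := fun x => by rw [← Scheme.Hom.comp_apply, heq]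
  have hsurj : Surjective f' := by
    refine ⟨fun y => ?_⟩
    have hy : U.ι y ∈ Set.range f := by
      rw [← hU, ← Scheme.Opens.range_ι]
      exact ⟨y, rfl⟩
    obtain ⟨x, hx⟩ := hy
    refine ⟨x, ?_⟩
    apply U.ι.isOpenEmbedding.injective
    exact (hb x).symm.trans hx
  have hopen' : IsOpenMap f' := by
    intro O hO
    have h1 : f' '' O = U.ι ⁻¹' (f '' O) := by
      have : f '' O = U.ι '' (f' '' O) := by
        rw [← Set.image_comp]
        apply Set.image_congr
        intro x _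
        exact hb x
      rw [this, Set.preimage_image_eq _ U.ι.isOpenEmbedding.injective]
    rw [h1]
    exact U.ι.continuous.isOpen_preimage _ (hopen O hO)
  have hhomeo : IsHomeomorph f' := ⟨f'.continuous, hopen', f'.injective, f'.surjective⟩
  have : QuasiCompact f' := ⟨fun U hU hc ↦ hhomeo.homeomorph.isCompact_preimage.mpr hc⟩
  have := Flat.isIso_of_surjective_of_mono f'
  rw [← heq]
  infer_instance

theorem exists_basicOpen_surjective [LocallyOfFiniteType f] [Flat f] [Mono f] {V : S.Opens}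
    (hV : IsAffineOpen V) {W : X.Opens} (hW : IsAffineOpen W) (e : W ≤ f ⁻¹ᵁ V) (x : X)
    (hxW : x ∈ W) :
    ∃ (t : Γ(S, V)) (e₁ : X.basicOpen (f.appLE V W e t) ≤ f ⁻¹ᵁ S.basicOpen t),
      x ∈ X.basicOpen (f.appLE V W e t) ∧
      Function.Surjective (f.appLE (S.basicOpen t) (X.basicOpen (f.appLE V W e t)) e₁) := by
  letI : Algebra Γ(S, V) Γ(X, W) := (f.appLE V W e).hom.toAlgebra
  haveI : Module.Flat Γ(S, V) Γ(X, W) := f.flat_appLE hV hW e
  haveI : Algebra.FiniteType Γ(S, V) Γ(X, W) := f.finiteType_appLE hV hW e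
  haveI : Algebra.IsEpi Γ(S, V) Γ(X, W) := by
    have h1 : Spec.map (f.appLE V W e) ≫ hV.fromSpec = hW.fromSpec ≫ f :=
      hV.SpecMap_appLE_fromSpec f hW e
    haveI : Mono (Spec.map (f.appLE V W e) ≫ hV.fromSpec) := by rw [h1]; infer_instance
    have hmono : Mono (Scheme.Spec.map (f.appLE V W e).op) :=
      mono_of_mono (Spec.map (f.appLE V W e)) hV.fromSpec
    have hmono' : Mono (f.appLE V W e).op := Scheme.Spec.mono_of_mono_map hmono
    have hepi : Epi (f.appLE V W e) := unop_epi_of_mono (f.appLE V W e).op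
    have hepi' : Epi (CommRingCat.ofHom (algebraMap Γ(S, V) Γ(X, W))) := hepi
    exact CommRingCat.epi_iff_epi.mp hepi'
  obtain ⟨q, hq⟩ : ∃ q, q = hW.primeIdealOf ⟨x, hxW⟩ := ⟨_, rfl⟩
  haveI := q.isPrime
  obtain ⟨t, htq, ht⟩ := exists_away (A := Γ(S, V)) (B := Γ(X, W)) q.asIdeal
  have e₁ : X.basicOpen (f.appLE V W e t) ≤ f ⁻¹ᵁ S.basicOpen t := by
    simp [Scheme.Hom.appLE]
  refine ⟨t, e₁, ?_, ?_⟩
  · have hx : hW.fromSpec q = x := by rw [hq]; exact hW.fromSpec_primeIdealOf ⟨x, hxW⟩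
    rw [← hx]
    change q ∈ hW.fromSpec ⁻¹ᵁ X.basicOpen (f.appLE V W e t)
    rw [hW.fromSpec_preimage_basicOpen]
    exact htq
  · haveI := hV.isLocalization_basicOpen t
    haveI : IsLocalization.Away (algebraMap Γ(S, V) Γ(X, W) t)
        Γ(X, X.basicOpen (f.appLE V W e t)) := hW.isLocalization_basicOpen (f.appLE V W e t)
    refine surjective_of_away t ht (f.appLE _ _ e₁).hom ?_
    rw [RingHom.algebraMap_toAlgebra, RingHom.algebraMap_toAlgebra,
      RingHom.algebraMap_toAlgebra, ← CommRingCat.hom_comp, ← CommRingCat.hom_comp,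
      Scheme.Hom.appLE_map, Scheme.Hom.map_appLE]

theorem isOpen_of_isClosed_of_stableUnderGeneralization_Spec (R : CommRingCat.{u})
    (T U : Set (Spec R)) (hT : IsClosed T) (hTg : StableUnderGeneralization T) (hU : IsOpen U)
    (hUc : IsCompact U) (hUd : Dense U) (hTU : IsOpen (T ∩ U)) : IsOpen T :=
  isOpen_of_isClosed_of_stableUnderGeneralization (R := R) T U hT hTg hU hUc hUd hTU

theorem isOpen_image_of_surjective_appLE [Flat f] (U : S.Opens) [QuasiCompact U.ι]
    [IsDominant U.ι] [IsIso (f ∣_ U)] {V₁ : S.Opens} (hV₁ : IsAffineOpen V₁) {W₁ : X.Opens}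
    (hW₁ : IsAffineOpen W₁) (e₁ : W₁ ≤ f ⁻¹ᵁ V₁)
    (hsurj : Function.Surjective (f.appLE V₁ W₁ e₁)) : IsOpen (f '' (W₁ : Set X)) := by
  haveI : IsClosedImmersion (Spec.map (f.appLE V₁ W₁ e₁)) :=
    IsClosedImmersion.spec_of_surjective _ hsurj
  have hcomm : Spec.map (f.appLE V₁ W₁ e₁) ≫ hV₁.fromSpec = hW₁.fromSpec ≫ f :=
    hV₁.SpecMap_appLE_fromSpec f hW₁ e₁
  have hT : f '' (W₁ : Set X)
      = hV₁.fromSpec '' (Set.range (Spec.map (f.appLE V₁ W₁ e₁))) := by
    rw [← hW₁.range_fromSpec, ← Set.range_comp, ← Set.range_comp]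
    have : (f ∘ hW₁.fromSpec) = (hV₁.fromSpec ∘ Spec.map (f.appLE V₁ W₁ e₁)) := by
      ext y
      simp only [Function.comp_apply, ← Scheme.Hom.comp_apply, hcomm]
    rw [this]
  have hpre : Set.range (Spec.map (f.appLE V₁ W₁ e₁))
      = hV₁.fromSpec ⁻¹' (f '' (W₁ : Set X)) := by
    rw [hT, Set.preimage_image_eq _ hV₁.fromSpec.isOpenEmbedding.injective]
  rw [hT]
  apply hV₁.fromSpec.isOpenEmbedding.isOpenMap
  refine isOpen_of_isClosed_of_stableUnderGeneralization_Spec Γ(S, V₁) _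
    (hV₁.fromSpec ⁻¹' (U : Set S)) ?_ ?_ ?_ ?_ ?_ ?_
  · exact (Spec.map (f.appLE V₁ W₁ e₁)).isClosedEmbedding.isClosed_range
  · rw [hpre]
    exact ((Flat.generalizingMap f).stableUnderGeneralization_image
      W₁.isOpen.stableUnderGeneralization).preimage hV₁.fromSpec.continuous
  · exact hV₁.fromSpec.continuous.isOpen_preimage _ U.isOpen
  · have h1 : IsCompact (U.ι ⁻¹ᵁ V₁ : Set U) := U.ι.isCompact_preimage hV₁.isCompact
    have h2 : IsCompact (U.ι '' (U.ι ⁻¹ᵁ V₁ : Set U)) := h1.image U.ι.continuous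
    have h3 : U.ι '' (U.ι ⁻¹ᵁ V₁ : Set U) = (V₁ : Set S) ∩ U := by
      change U.ι '' (U.ι ⁻¹' (V₁ : Set S)) = _
      rw [Set.image_preimage_eq_inter_range, Scheme.Opens.range_ι]
    have h4 : hV₁.fromSpec ⁻¹' (U : Set S) = hV₁.fromSpec ⁻¹' ((V₁ : Set S) ∩ U) := by
      rw [Set.preimage_inter]
      have : hV₁.fromSpec ⁻¹' (V₁ : Set S) = Set.univ := by
        rw [← hV₁.range_fromSpec, Set.preimage_range]
      rw [this, Set.univ_inter]
    rw [h4]
    refine (hV₁.fromSpec.isOpenEmbedding.isInducing.isCompact_preimage_iff ?_).mpr (h3 ▸ h2)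
    rw [hV₁.range_fromSpec]
    exact Set.inter_subset_left
  · have hd : Dense (U : Set S) := by
      have := U.ι.denseRange
      rwa [DenseRange, Scheme.Opens.range_ι] at this
    exact hd.preimage hV₁.fromSpec.isOpenEmbedding.isOpenMap
  · rw [hpre, ← Set.preimage_inter]
    apply hV₁.fromSpec.continuous.isOpen_preimage
    have : f '' (W₁ : Set X) ∩ U = f '' ((W₁ : Set X) ∩ (f ⁻¹ᵁ U : Set X)) := by
      change _ = f '' ((W₁ : Set X) ∩ f ⁻¹' (U : Set S))
      rw [Set.image_inter_preimage]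
    rw [this]
    exact isOpen_image_inter_preimage f U W₁

theorem isOpenMap_of_iso_over_dense [LocallyOfFiniteType f] [Flat f] [Mono f] (U : S.Opens)
    [QuasiCompact U.ι] [IsDominant U.ι] [IsIso (f ∣_ U)] : IsOpenMap f := by
  intro O hO
  rw [isOpen_iff_forall_mem_open]
  rintro _ ⟨x, hx, rfl⟩
  obtain ⟨_, ⟨V, hV, rfl⟩, hxV, -⟩ :=
    S.isBasis_affineOpens.exists_subset_of_mem_open (Set.mem_univ (f x)) isOpen_univ
  obtain ⟨O', hO'⟩ : ∃ O' : X.Opens, (O' : Set X) = O := ⟨⟨O, hO⟩, rfl⟩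
  obtain ⟨_, ⟨W, hW, rfl⟩, hxW, hWO⟩ :=
    X.isBasis_affineOpens.exists_subset_of_mem_open
      (show x ∈ ((O' ⊓ f ⁻¹ᵁ V : X.Opens) : Set X) from ⟨hO' ▸ hx, hxV⟩)
      (O' ⊓ f ⁻¹ᵁ V).isOpen
  have e : W ≤ f ⁻¹ᵁ V := fun y hy => (hWO hy).2
  obtain ⟨t, e₁, hxt, hsurj⟩ := exists_basicOpen_surjective f hV hW e x hxW
  refine ⟨f '' (X.basicOpen (f.appLE V W e t) : Set X), ?_, ?_, ⟨x, hxt, rfl⟩⟩
  · apply Set.image_mono
    intro y hy
    have := (hWO (X.basicOpen_le _ hy)).1
    rw [← hO']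
    exact this
  · exact isOpen_image_of_surjective_appLE f U (hV.basicOpen t) (hW.basicOpen _) e₁ hsurj

theorem main0449 (U : S.Opens) [IsSeparated f] [LocallyOfFiniteType f] [Flat f]
    [QuasiCompact U.ι] [IsSchemeTheoreticallyDominant U.ι] [IsIso (f ∣_ U)] :
    IsOpenImmersion f := by
  haveI : Mono f := mono_of_iso_over_dense f U
  exact isOpenImmersion_of_flat_of_mono_of_isOpenMap f (isOpenMap_of_iso_over_dense f U)

end Groth.Agent.Helper2.FlatEpiOI
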